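import Groth.Prelude.Def_W4stktopologysheavesBas
import Mathlib.Topology.Sets.Opens
import Mathlib.Topology.Sheaves.SheafCondition.UniqueGluing
import Mathlib.Topology.Sheaves.SheafCondition.Sites
import Mathlib.CategoryTheory.Limits.Types.Limits

/-! # Sheaves of sets on a basis -/

set_option autoImplicit false

universe u

open TopologicalSpace

namespace GrothLib.ShB25

variable {X : Type u} [TopologicalSpace X] {B : Set (Opens X)} (hB : Opens.IsBasis B) (F : ShB.Pre B)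

/-- Members of `B` contained in a given open. -/
abbrev Below (B : Set (Opens X)) (W : Opens X) : Type u := {M : B // (M : Opens X) ≤ W}

include hB in
theorem le_iSup_below (W : Opens X) : W ≤ ⨆ M : Below B W, (M.1 : Opens X) := fun _ hx => by
  obtain ⟨M, hM, hxM, hMW⟩ := Opens.isBasis_iff_nbhd.1 hB hx
  exact Opens.mem_iSup.2 ⟨⟨⟨M, hM⟩, hMW⟩, hxM⟩

/-- Sections over a covered member are determined by their restrictions. -/
def Separated : Prop :=
  ∀ (U : B) (ι : Type u) (V : ι → B) (hV : ∀ i, (V i : Opens X) ≤ (U : Opens X)),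
    (U : Opens X) ≤ ⨆ i, (V i : Opens X) →
    ∀ t t' : F.obj U, (∀ i, F.res (hV i) t = F.res (hV i) t') → t = t'

/-- A covering datum with all the members inside the pairwise intersections. -/
noncomputable def coverOf (hB : Opens.IsBasis B) (U : B) (ι : Type u) (V : ι → B)
    (hV : ∀ i, (V i : Opens X) ≤ (U : Opens X)) (hc : (U : Opens X) ≤ ⨆ i, (V i : Opens X)) :
    ShB.Cover B where
  U := U
  ι := ι
  V := V
  V_le := hV
  V_cover := hc
  κ i j := Below B ((V i : Opens X) ⊓ V j)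
  W _ _ M := M.1
  W_le_left _ _ M := M.2.trans inf_le_left
  W_le_right _ _ M := M.2.trans inf_le_right
  W_cover _ _ := le_iSup_below hB _

variable {F}

theorem glues_unique {c : ShB.Cover B} (h : ShB.GluesUniquely F c) (t t' : F.obj c.U)
    (he : ∀ i, F.res (c.V_le i) t = F.res (c.V_le i) t') : t = t' :=
  (h (fun i => F.res (c.V_le i) t) fun i j k => by rw [F.res_comp, F.res_comp]).unique
    (fun _ => rfl) fun i => (he i).symm

theorem separated_of_cofinal (C : ∀ U : B, Set (ShB.Cover B)) (hCU : ∀ U, ∀ c ∈ C U, c.U = U)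
    (hC : ∀ (U : B) (ι : Type u) (V : ι → B), (∀ i, (V i : Opens X) ≤ (U : Opens X)) →
      (U : Opens X) ≤ ⨆ i, (V i : Opens X) →
      ∃ c ∈ C U, ∀ i' : c.ι, ∃ i, (c.V i' : Opens X) ≤ (V i : Opens X))
    (h : ∀ U, ∀ c ∈ C U, ∀ t t' : F.obj c.U,
      (∀ i, F.res (c.V_le i) t = F.res (c.V_le i) t') → t = t') : Separated F := by
  intro U ι V hV hc t t' he
  obtain ⟨c, hcC, href⟩ := hC U ι V hV hc
  obtain rfl := hCU U c hcC
  refine h _ c hcC t t' fun i' => ?_
  obtain ⟨i, hi⟩ := href i'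
  rw [← F.res_comp (hV i) hi, ← F.res_comp (hV i) hi, he i]

include hB in
theorem separated (hF : ShB.IsSheaf F) : Separated F := fun U ι V hV hc t t' he =>
  glues_unique (c := coverOf hB U ι V hV hc) (hF _) t t' he

include hB in
theorem compat_below (hsep : Separated F) {c : ShB.Cover B} {s : ∀ i, F.obj (c.V i)}
    (hs : ∀ i j k, F.res (c.W_le_left i j k) (s i) = F.res (c.W_le_right i j k) (s j))
    (i j : c.ι) (M : B) (h₁ : (M : Opens X) ≤ c.V i) (h₂ : (M : Opens X) ≤ c.V j) :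
    F.res h₁ (s i) = F.res h₂ (s j) := by
  let κ := Σ k : c.κ i j, Below B ((M : Opens X) ⊓ c.W i j k)
  refine hsep M κ (fun k => k.2.1) (fun k => k.2.2.trans inf_le_left) ?_ _ _ fun k => ?_
  · intro x hx
    obtain ⟨k, hk⟩ := Opens.mem_iSup.1 (c.W_cover i j ⟨h₁ hx, h₂ hx⟩)
    obtain ⟨N, hN⟩ := Opens.mem_iSup.1 (le_iSup_below hB ((M : Opens X) ⊓ c.W i j k) ⟨hx, hk⟩)
    exact Opens.mem_iSup.2 ⟨⟨k, N⟩, hN⟩
  · rw [F.res_comp, F.res_comp,
      ← F.res_comp (c.W_le_left i j k.1) (k.2.2.trans inf_le_right),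
      ← F.res_comp (c.W_le_right i j k.1) (k.2.2.trans inf_le_right), hs]

include hB in
theorem isSheaf_of_cofinal (C : ∀ U : B, Set (ShB.Cover B)) (hCU : ∀ U, ∀ c ∈ C U, c.U = U)
    (hC : ∀ (U : B) (ι : Type u) (V : ι → B), (∀ i, (V i : Opens X) ≤ (U : Opens X)) →
      (U : Opens X) ≤ ⨆ i, (V i : Opens X) →
      ∃ c ∈ C U, ∀ i' : c.ι, ∃ i, (c.V i' : Opens X) ≤ (V i : Opens X))
    (h : ∀ U, ∀ c ∈ C U, ShB.GluesUniquely F c) : ShB.IsSheaf F := by
  have hsep := separated_of_cofinal C hCU hC fun U c hc => glues_unique (h U c hc)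
  intro c s hs
  obtain ⟨c', hc'C, href⟩ := hC c.U c.ι c.V c.V_le c.V_cover
  have hU := hCU c.U c' hc'C
  choose a ha using href
  obtain ⟨t', ht', -⟩ := h c.U c' hc'C (fun i' => F.res (ha i') (s (a i'))) fun i' j' k => by
    rw [F.res_comp, F.res_comp]
    exact compat_below hB hsep hs _ _ _ _ _
  let t : F.obj c.U := F.res (le_of_eq (congrArg Subtype.val hU).symm) t'
  have ht : ∀ i, F.res (c.V_le i) t = s i := fun i => by
    let κ := Σ i' : c'.ι, Below B ((c.V i : Opens X) ⊓ c'.V i')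
    refine hsep _ κ (fun k => k.2.1) (fun k => k.2.2.trans inf_le_left) ?_ _ _ fun k => ?_
    · intro x hx
      have hxU : x ∈ (c'.U : Opens X) := by rw [hU]; exact c.V_le i hx
      obtain ⟨i', hi'⟩ := Opens.mem_iSup.1 (c'.V_cover hxU)
      obtain ⟨N, hN⟩ := Opens.mem_iSup.1 (le_iSup_below hB ((c.V i : Opens X) ⊓ c'.V i') ⟨hx, hi'⟩)
      exact Opens.mem_iSup.2 ⟨⟨i', N⟩, hN⟩
    · have := congrArg (F.res (k.2.2.trans inf_le_right)) (ht' k.1)
      rw [F.res_comp, F.res_comp] at this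
      simp only [t, F.res_comp]
      exact this.trans (compat_below hB hsep hs _ _ _ _ _)
  exact ⟨t, ht, fun t₂ ht₂ => hsep c.U c.ι c.V c.V_le c.V_cover _ _ fun i => (ht₂ i).trans (ht i).symm⟩

/-! ### germs -/

include hB in
theorem stalkRel_trans {x : X} {a b c : Σ U : {U : B // x ∈ (U : Opens X)}, F.obj U.1}
    (h₁ : ShB.StalkRel F x a b) (h₂ : ShB.StalkRel F x b c) : ShB.StalkRel F x a c := by
  obtain ⟨W₁, hx₁, ha, hb, e₁⟩ := h₁
  obtain ⟨W₂, hx₂, hb', hc, e₂⟩ := h₂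
  obtain ⟨W, hW, hxW, hle⟩ := Opens.isBasis_iff_nbhd.1 hB
    (show x ∈ (W₁ : Opens X) ⊓ W₂ from ⟨hx₁, hx₂⟩)
  refine ⟨⟨W, hW⟩, hxW, (hle.trans inf_le_left).trans ha, (hle.trans inf_le_right).trans hc, ?_⟩
  have e₁' := congrArg (F.res (V := ⟨W, hW⟩) (hle.trans inf_le_left)) e₁
  have e₂' := congrArg (F.res (V := ⟨W, hW⟩) (hle.trans inf_le_right)) e₂
  rw [F.res_comp, F.res_comp] at e₁' e₂'
  exact e₁'.trans e₂'

include hB in
theorem stalkRel_of_eq {x : X} {a b : Σ U : {U : B // x ∈ (U : Opens X)}, F.obj U.1}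
    (h : Quot.mk (ShB.StalkRel F x) a = Quot.mk (ShB.StalkRel F x) b) : ShB.StalkRel F x a b :=
  (Quot.eqvGen_exact h).rec (fun _ _ h => h) (fun a => ⟨a.1.1, a.1.2, le_rfl, le_rfl, rfl⟩)
    (fun _ _ _ ⟨W, hx, ha, hb, e⟩ => ⟨W, hx, hb, ha, e.symm⟩) (fun _ _ _ _ _ h₁ h₂ => stalkRel_trans hB h₁ h₂)

include hB in
theorem germ_eq {U V : B} {x : X} (hU : x ∈ (U : Opens X)) (hV : x ∈ (V : Opens X)) {s : F.obj U} {t : F.obj V}
    (h : ShB.germ F x hU s = ShB.germ F x hV t) :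
    ∃ (W : B) (_ : x ∈ (W : Opens X)) (h₁ : (W : Opens X) ≤ (U : Opens X)) (h₂ : (W : Opens X) ≤ (V : Opens X)),
      F.res h₁ s = F.res h₂ t :=
  stalkRel_of_eq hB h

theorem germ_res {U V : B} (h : (V : Opens X) ≤ (U : Opens X)) {x : X} (hx : x ∈ (V : Opens X)) (s : F.obj U) :
    ShB.germ F x hx (F.res h s) = ShB.germ F x (h hx) s :=
  Quot.sound ⟨V, hx, le_rfl, h, F.res_id V _⟩

include hB in
theorem eq_of_germ_eq (hF : ShB.IsSheaf F) {U : B} {s t : F.obj U}
    (h : ∀ (x : X) (hx : x ∈ (U : Opens X)), ShB.germ F x hx s = ShB.germ F x hx t) : s = t := by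
  have hW := fun x : (U : Opens X) => germ_eq hB x.2 x.2 (h x.1 x.2)
  choose W hxW h₁ h₂ he using hW
  refine separated hB hF U (U : Opens X) W h₁ (fun x hx => Opens.mem_iSup.2 ⟨⟨x, hx⟩, hxW ⟨x, hx⟩⟩) s t fun x => ?_
  exact he x

/-! ### extension to all opens -/

section Ext

open CategoryTheory Opposite

variable (F) in
/-- Compatible families on the members inside an open. -/
def ExtObj (W : Opens X) : Type u :=
  {s : ∀ M : Below B W, F.obj M.1 //
    ∀ (M N : Below B W) (h : (N.1 : Opens X) ≤ M.1), F.res h (s M) = s N}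

variable (F) in
/-- The extension of a presheaf on `B` to all opens. -/
def ext : TopCat.Presheaf (Type u) (TopCat.of X) where
  obj W := ExtObj F W.unop
  map {W W'} f := TypeCat.ofHom fun s =>
    ⟨fun M => s.1 ⟨M.1, M.2.trans f.unop.le⟩, fun M N h => s.2 ⟨M.1, _⟩ ⟨N.1, _⟩ h⟩

include hB in
theorem isSheaf_ext (hF : ShB.IsSheaf F) : TopCat.Presheaf.IsSheaf (ext F) := by
  rw [TopCat.Presheaf.isSheaf_iff_isSheafUniqueGluing]
  intro ι W sf hsf
  have hsep := separated hB hF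
  have key : ∀ (M : Below B (iSup W)),
      ∃! t : F.obj M.1, ∀ (i : ι) (N : Below B ((M.1 : Opens X) ⊓ W i)),
        F.res (N.2.trans inf_le_left) t = (sf i).1 ⟨N.1, N.2.trans inf_le_right⟩ := fun M => by
    let κ := Σ i : ι, Below B ((M.1 : Opens X) ⊓ W i)
    have hc : (M.1 : Opens X) ≤ ⨆ k : κ, (k.2.1 : Opens X) := fun x hx => by
      obtain ⟨i, hi⟩ := Opens.mem_iSup.1 (M.2 hx)
      obtain ⟨N, hN⟩ := Opens.mem_iSup.1 (le_iSup_below hB ((M.1 : Opens X) ⊓ W i) ⟨hx, hi⟩)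
      exact Opens.mem_iSup.2 ⟨⟨i, N⟩, hN⟩
    let c := coverOf hB M.1 κ (fun k => k.2.1) (fun k => k.2.2.trans inf_le_left) hc
    obtain ⟨t, ht, hu⟩ := hF c (fun k => (sf k.1).1 ⟨k.2.1, k.2.2.trans inf_le_right⟩) fun k l P => by
      have hP : (P.1 : Opens X) ≤ W k.1 ⊓ W l.1 :=
        le_inf ((P.2.trans inf_le_left).trans (k.2.2.trans inf_le_right))
          ((P.2.trans inf_le_right).trans (l.2.2.trans inf_le_right))
      have := congrArg (fun s : ExtObj F (W k.1 ⊓ W l.1) => s.1 ⟨P.1, hP⟩) (hsf k.1 l.1)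
      refine ((sf k.1).2 ⟨k.2.1, _⟩ ⟨P.1, hP.trans inf_le_left⟩ _).trans ?_
      exact this.trans ((sf l.1).2 ⟨l.2.1, _⟩ ⟨P.1, hP.trans inf_le_right⟩ _).symm
    exact ⟨t, fun i N => ht ⟨i, N⟩, fun t' ht' => hu t' fun k => ht' k.1 k.2⟩
  choose t ht hu using key
  have hnat : ∀ (M N : Below B (iSup W)) (h : (N.1 : Opens X) ≤ M.1), F.res h (t M) = t N := fun M N h =>
    hu N _ fun i P => by
      rw [F.res_comp]
      exact ht M i ⟨P.1, P.2.trans (inf_le_inf_right _ h)⟩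
  refine ⟨⟨t, hnat⟩, fun i => ?_, fun s hs => ?_⟩
  · refine Subtype.ext (funext fun M => ?_)
    have := ht ⟨M.1, M.2.trans (le_iSup W i)⟩ i ⟨M.1, le_inf le_rfl M.2⟩
    rw [F.res_id] at this
    exact this
  · refine Subtype.ext (funext fun M => ?_)
    refine hu M _ fun i N => ?_
    rw [← hs i]
    exact s.2 M ⟨N.1, N.2.trans (inf_le_right.trans (le_iSup W i))⟩ _

/-- The restriction of the extension to `B` is the given presheaf. -/
def extIso : ShB.Iso (ShB.restrict B (ext F)) F where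
  hom :=
    { app := fun U s => s.1 ⟨U, le_rfl⟩
      natural := fun {U V} h s => s.2 ⟨U, le_rfl⟩ ⟨V, h⟩ h }
  inv :=
    { app := fun U t => ⟨fun M => F.res M.2 t, fun M N h => F.res_comp _ _ _⟩
      natural := fun {U V} h t => Subtype.ext (funext fun M => (F.res_comp h M.2 t).symm) }
  hom_inv U s := Subtype.ext (funext fun M => s.2 ⟨U, le_rfl⟩ M M.2)
  inv_hom U t := F.res_id U t

end Ext

end GrothLib.ShB25
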